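import Groth.Agent.Lib.Spread18.Basic
import Mathlib.AlgebraicGeometry.Morphisms.FiniteType

/-!
# Morphisms of finite type which are open immersions near a point
-/

universe u

open CategoryTheory AlgebraicGeometry TopologicalSpace

namespace Groth.Agent.Spread18

theorem exists_isLocalization_away' {A B : Type*} [CommRing A] [CommRing B] [Algebra A B]
    [Algebra.FiniteType A B] (p : Ideal A) (q : Ideal B) [p.IsPrime] [q.IsPrime]
    (hpq : p = q.comap (algebraMap A B))
    (hA : Function.Injective (algebraMap A (Localization.AtPrime p)))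
    (hloc : Function.Bijective (Localization.localRingHom p q (algebraMap A B) hpq)) :
    ∃ (t : B) (u : A), t ∉ q ∧ IsLocalization.Away u (Localization.Away t) := by
  subst hpq
  exact exists_isLocalization_away q hA hloc

theorem exists_openImmersion_nhd {X S : Scheme.{u}} (f : X ⟶ S) [LocallyOfFiniteType f] (x : X)
    [S.IsGermInjectiveAt (f x)] (hx : IsIso (f.stalkMap x)) :
    ∃ U : X.Opens, x ∈ U ∧ IsOpenImmersion (U.ι ≫ f) := by
  obtain ⟨U, hsU, hU, hinj⟩ := S.exists_germ_injective (f x)
  obtain ⟨_, ⟨W : X.Opens, hW, rfl⟩, hxW, hWU⟩ :=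
    X.isBasis_affineOpens.exists_subset_of_mem_open (show x ∈ f ⁻¹ᵁ U from hsU) (f ⁻¹ᵁ U).2
  have hWU : W ≤ f ⁻¹ᵁ U := hWU
  algebraize [(f.appLE U W hWU).hom]
  have : Algebra.FiniteType Γ(S, U) Γ(X, W) := f.finiteType_appLE hU hW hWU
  let p := (hU.primeIdealOf ⟨f x, hWU hxW⟩).asIdeal
  let q := (hW.primeIdealOf ⟨x, hxW⟩).asIdeal
  have hpq : p = q.comap (algebraMap Γ(S, U) Γ(X, W)) :=
    congr($(IsAffineOpen.comap_primeIdealOf_appLE U hU W hW hWU hxW).1).symm
  have hloc : Function.Bijective (Localization.localRingHom p q (algebraMap Γ(S, U) Γ(X, W)) hpq) := by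
    have h := (MorphismProperty.isomorphisms CommRingCat).arrow_mk_iso_iff
      (IsAffineOpen.arrowStalkMapIso f U hU W hW hWU hxW)
    have : IsIso (CommRingCat.ofHom
        (Localization.localRingHom p q (algebraMap Γ(S, U) Γ(X, W)) hpq)) := h.1 hx
    exact ConcreteCategory.bijective_of_isIso (CommRingCat.ofHom
        (Localization.localRingHom p q (algebraMap Γ(S, U) Γ(X, W)) hpq))
  have hA : Function.Injective (algebraMap Γ(S, U) (Localization.AtPrime p)) := by
    let := S.presheaf.algebra_section_stalk ⟨f x, hWU hxW⟩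
    have := hU.isLocalization_stalk ⟨f x, hWU hxW⟩
    intro a b hab
    refine hinj ?_
    have := congrArg (IsLocalization.algEquiv p.primeCompl (Localization.AtPrime p)
      (S.presheaf.stalk (f x))) hab
    simp only [AlgEquiv.commutes] at this
    exact this
  obtain ⟨t, u, ht, hloc'⟩ := exists_isLocalization_away' p q hpq hA hloc
  have hxD : x ∈ X.basicOpen t := by
    rw [X.mem_basicOpen t x hxW]
    let := X.presheaf.algebra_section_stalk ⟨x, hxW⟩
    have := hW.isLocalization_stalk ⟨x, hxW⟩
    exact IsLocalization.map_units (M := q.primeCompl) (X.presheaf.stalk x) ⟨t, ht⟩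
  refine ⟨X.basicOpen t, hxD, ?_⟩
  have hD : IsAffineOpen (X.basicOpen t) := hW.basicOpen t
  have hDU : X.basicOpen t ≤ f ⁻¹ᵁ U := (X.basicOpen_le t).trans hWU
  algebraize [(f.appLE U (X.basicOpen t) hDU).hom]
  have := hW.isLocalization_basicOpen t
  have : IsScalarTower Γ(S, U) Γ(X, W) Γ(X, X.basicOpen t) := by
    refine IsScalarTower.of_algebraMap_eq' ?_
    change (f.appLE U (X.basicOpen t) hDU).hom =
      ((X.presheaf.map (homOfLE (X.basicOpen_le t)).op)).hom.comp (f.appLE U W hWU).hom
    rw [← CommRingCat.hom_comp, Scheme.Hom.appLE_map]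
  have : IsLocalization.Away u Γ(X, X.basicOpen t) :=
    IsLocalization.isLocalization_of_algEquiv (Submonoid.powers u)
      ((IsLocalization.algEquiv (Submonoid.powers t) (Localization.Away t)
        Γ(X, X.basicOpen t)).restrictScalars Γ(S, U))
  have hmap : IsOpenImmersion (Spec.map (f.appLE U (X.basicOpen t) hDU)) :=
    IsOpenImmersion.of_isLocalization u
  have e : (X.basicOpen t).ι ≫ f =
      hD.isoSpec.hom ≫ Spec.map (f.appLE U (X.basicOpen t) hDU) ≫ hU.fromSpec := by
    rw [IsAffineOpen.SpecMap_appLE_fromSpec f hU hD hDU, ← Category.assoc,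
      IsAffineOpen.isoSpec_hom, IsAffineOpen.toSpecΓ_fromSpec]
  rw [e]
  infer_instance

end Groth.Agent.Spread18
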