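import Mathlib.AlgebraicGeometry.SpreadingOut
import Mathlib.AlgebraicGeometry.AffineScheme
import Mathlib.RingTheory.Spectrum.Prime.Topology

/-!
# Local isomorphism from an isomorphism of local rings
-/

universe u

open CategoryTheory AlgebraicGeometry TopologicalSpace

namespace Groth.Agent.Spread18

/-- A reduced ring with finitely many minimal primes satisfies the germ injectivity criterion. -/
theorem germInjective_criterion {R : Type*} [CommRing R] [_root_.IsReduced R]
    (hfin : (minimalPrimes R).Finite) (I : Ideal R) (hI : I.IsPrime) :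
    ∃ f : R, f ∉ I ∧ ∀ (x y : R), y * x = 0 → y ∉ I → ∃ n, f ^ n * x = 0 := by
  classical
  have hsel : ∀ P ∈ hfin.toFinset.filter (fun P => ¬ P ≤ I), ∃ f ∈ P, f ∉ I := fun P hP =>
    SetLike.not_le_iff_exists.mp (Finset.mem_filter.1 hP).2
  choose g hgP hgI using hsel
  refine ⟨(hfin.toFinset.filter (fun P => ¬ P ≤ I)).attach.prod fun P => g P.1 P.2,
    fun h => ?_, fun x y hxy hy => ⟨1, ?_⟩⟩
  · obtain ⟨P, -, hP⟩ := hI.prod_mem_iff.1 h
    exact hgI _ _ hP
  · refine (mem_nilradical.1 ?_).eq_zero
    rw [nilradical, ← Ideal.sInf_minimalPrimes, Submodule.mem_sInf]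
    intro (P : Ideal R) hP
    have hPp : P.IsPrime := hP.1.1
    by_cases hle : P ≤ I
    · refine P.mul_mem_left _ ((hPp.mem_or_mem ?_).resolve_left fun h => hy (hle h))
      rw [hxy]; exact P.zero_mem
    · have hPm : P ∈ hfin.toFinset.filter (fun P => ¬ P ≤ I) :=
        Finset.mem_filter.2 ⟨hfin.mem_toFinset.2 hP, hle⟩
      refine P.mul_mem_right _ ?_
      rw [pow_one]
      exact Ideal.mem_of_dvd _ (Finset.dvd_prod_of_mem _ (Finset.mem_attach _ ⟨P, hPm⟩)) (hgP P hPm)

theorem finite_components_open {X : Type*} [TopologicalSpace X] (U : Opens X)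
    (hX : (irreducibleComponents X).Finite) : (irreducibleComponents U).Finite := by
  have hf : Topology.IsOpenEmbedding ((↑) : U → X) := U.2.isOpenEmbedding_subtypeVal
  refine (hX.image fun Z => ((↑) : U → X) ⁻¹' Z).subset fun C hC => ?_
  obtain ⟨Z, hZ, hsub⟩ := exists_mem_irreducibleComponents_subset_of_isIrreducible _
    (hC.1.image _ hf.continuous.continuousOn)
  obtain ⟨c, hc⟩ := hC.1.1
  have h2 := preimage_mem_irreducibleComponents hZ hf ⟨c.1, hsub ⟨c, hc, rfl⟩, c, rfl⟩
  exact ⟨Z, hZ, subset_antisymm (hC.2 h2.1 (Set.image_subset_iff.1 hsub))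
    (Set.image_subset_iff.1 hsub)⟩

/-- A reduced scheme with finitely many irreducible components is germ injective. -/
theorem isGermInjective (X : Scheme.{u}) [AlgebraicGeometry.IsReduced X]
    (hirr : (irreducibleComponents (X : Type u)).Finite) (x : X) : X.IsGermInjectiveAt x := by
  obtain ⟨_, ⟨U : X.Opens, hU, rfl⟩, hxU, -⟩ :=
    X.isBasis_affineOpens.exists_subset_of_mem_open (Set.mem_univ x) isOpen_univ
  have h1 : (irreducibleComponents (U.toScheme : Type u)).Finite := finite_components_open U hirr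
  have e : (Spec Γ(X, U) : Scheme.{u}) ≃ₜ U.toScheme := hU.isoSpec.inv.homeomorph
  have h2 : (irreducibleComponents (PrimeSpectrum Γ(X, U))).Finite := by
    refine (h1.image fun Z => e ⁻¹' Z).subset fun C hC => ?_
    refine ⟨e '' C, ?_, e.injective.preimage_image C⟩
    have := preimage_mem_irreducibleComponents hC e.symm.isOpenEmbedding
      ⟨_, hC.1.1.some_mem, e hC.1.1.some, e.symm_apply_apply _⟩
    rwa [show e '' C = e.symm ⁻¹' C from e.toEquiv.image_eq_preimage_symm C]
  have h3 : (minimalPrimes Γ(X, U)).Finite := by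
    rw [← PrimeSpectrum.vanishingIdeal_irreducibleComponents]
    exact h2.image _
  have := Scheme.IsGermInjective.Spec (R := Γ(X, U)) (germInjective_criterion h3)
  have h4 := (this (hU.isoSpec.hom ⟨x, hxU⟩))
  have h5 : X.IsGermInjectiveAt (hU.fromSpec (hU.isoSpec.hom ⟨x, hxU⟩)) :=
    inferInstance
  convert h5
  rw [← Scheme.Hom.comp_apply, hU.isoSpec_hom, hU.toSpecΓ_fromSpec]
  rfl

/-- If a map of local rings at primes `q` over `p` of a finite type algebra is bijective and
`A → A_p` is injective, then some `B_t` with `t ∉ q` is a localization `A_u`. -/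
theorem exists_isLocalization_away {A B : Type*} [CommRing A] [CommRing B] [Algebra A B]
    [Algebra.FiniteType A B] (q : Ideal B) [q.IsPrime]
    (hA : Function.Injective (algebraMap A (Localization.AtPrime (q.comap (algebraMap A B)))))
    (hloc : Function.Bijective (Localization.localRingHom (q.comap (algebraMap A B)) q
      (algebraMap A B) rfl)) :
    ∃ (t : B) (u : A), t ∉ q ∧ IsLocalization.Away u (Localization.Away t) := by
  classical
  set p := q.comap (algebraMap A B) with hp
  set φ := Localization.localRingHom p q (algebraMap A B) rfl with hφ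
  obtain ⟨S, hS⟩ := ‹Algebra.FiniteType A B›.1
  have hsurj : ∀ b : B, ∃ (a : A) (s : p.primeCompl),
      algebraMap B (Localization.AtPrime q) (b * algebraMap A B s) =
        algebraMap B (Localization.AtPrime q) (algebraMap A B a) := by
    intro b
    obtain ⟨z, hz⟩ := hloc.2 (algebraMap B _ b)
    obtain ⟨a, s, rfl⟩ := IsLocalization.exists_mk'_eq p.primeCompl z
    refine ⟨a, s, ?_⟩
    rw [map_mul, ← hz, ← Localization.localRingHom_to_map (hIJ := (rfl : p = _)),
      ← Localization.localRingHom_to_map (hIJ := (rfl : p = _)), ← map_mul,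
      IsLocalization.mk'_spec]
  have hsurj' : ∀ b : B, ∃ (a : A) (s : p.primeCompl) (t : q.primeCompl),
      (t : B) * (b * algebraMap A B s) = (t : B) * algebraMap A B a := by
    intro b
    obtain ⟨a, s, h⟩ := hsurj b
    obtain ⟨t, ht⟩ := (IsLocalization.eq_iff_exists q.primeCompl _).1 h
    exact ⟨a, s, t, ht⟩
  choose a s t hst using hsurj'
  let U : A := ∏ b ∈ S, (s b : A)
  have hU : U ∉ p := (p.primeCompl.prod_mem fun b _ => (s b).2)
  let T : B := ∏ b ∈ S, (t b : B)
  have hT : T ∉ q := (q.primeCompl.prod_mem fun b _ => (t b).2)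
  let t₀ : B := T * algebraMap A B U
  let L := Localization.Away t₀
  have ht₀ : t₀ ∉ q := q.primeCompl.mul_mem hT (hU : U ∈ p.primeCompl)
  have hunit : ∀ x : B, x ∣ t₀ → IsUnit (algebraMap B L x) := fun x hx =>
    isUnit_of_dvd_unit (map_dvd _ hx) (IsLocalization.Away.algebraMap_isUnit t₀)
  have hB : ∀ b : B, ∃ (n : ℕ) (a' : A),
      algebraMap B L (b * algebraMap A B U ^ n) = algebraMap A L a' := by
    intro b
    have hb : b ∈ Algebra.adjoin A (S : Set B) := hS ▸ Algebra.mem_top
    induction hb using Algebra.adjoin_induction with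
    | mem x hx =>
      obtain ⟨r, hr⟩ : (s x : A) ∣ U := Finset.dvd_prod_of_mem (fun b => (s b : A)) hx
      refine ⟨1, a x * r, ?_⟩
      have h1 : algebraMap B L (x * algebraMap A B (s x)) = algebraMap A L (a x) := by
        rw [IsScalarTower.algebraMap_apply A B L]
        refine (hunit (t x : B)
          ((Finset.dvd_prod_of_mem (fun b => (t b : B)) hx).mul_right _)).mul_left_cancel ?_
        rw [← map_mul, ← map_mul, hst x]
      rw [pow_one, hr, map_mul (algebraMap A B), ← mul_assoc, map_mul (algebraMap B L), h1,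
        map_mul (algebraMap A L), ← IsScalarTower.algebraMap_apply]
    | algebraMap r =>
      exact ⟨0, r, by rw [pow_zero, mul_one, ← IsScalarTower.algebraMap_apply]⟩
    | add x y _ _ hx hy =>
      obtain ⟨n, a₁, hn⟩ := hx
      obtain ⟨m, a₂, hm⟩ := hy
      refine ⟨n + m, a₁ * U ^ m + a₂ * U ^ n, ?_⟩
      have e : (x + y) * algebraMap A B U ^ (n + m) = (x * algebraMap A B U ^ n) * algebraMap A B (U ^ m)
          + (y * algebraMap A B U ^ m) * algebraMap A B (U ^ n) := by
        rw [map_pow, map_pow]; ring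
      rw [e, map_add, map_mul (algebraMap B L) (x * _), map_mul (algebraMap B L) (y * _), hn, hm,
        ← IsScalarTower.algebraMap_apply,
        ← IsScalarTower.algebraMap_apply, ← map_mul, ← map_mul, ← map_add]
    | mul x y _ _ hx hy =>
      obtain ⟨n, a₁, hn⟩ := hx
      obtain ⟨m, a₂, hm⟩ := hy
      refine ⟨n + m, a₁ * a₂, ?_⟩
      have e : x * y * algebraMap A B U ^ (n + m) =
          (x * algebraMap A B U ^ n) * (y * algebraMap A B U ^ m) := by ring
      rw [e, map_mul (algebraMap B L), hn, hm, ← map_mul]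
  obtain ⟨n, c, hc⟩ := hB t₀
  let u : A := U * c
  have hUu : IsUnit (algebraMap A L U) := by
    rw [IsScalarTower.algebraMap_apply A B L]; exact hunit _ ⟨T, by ring⟩
  have hcu : IsUnit (algebraMap A L c) := by
    rw [← hc, map_mul, map_pow, ← IsScalarTower.algebraMap_apply]
    exact (hunit t₀ dvd_rfl).mul (hUu.pow n)
  have hu : IsUnit (algebraMap A L u) := by rw [map_mul]; exact hUu.mul hcu
  refine ⟨t₀, u, ht₀, ?_⟩
  let ψ : Localization.Away u →ₐ[A] L :=
    IsLocalization.liftAlgHom (M := Submonoid.powers u) (f := Algebra.ofId A L)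
      (by rintro ⟨_, n, rfl⟩; exact (map_pow (algebraMap A L) u n) ▸ hu.pow n)
  have hψu : ∀ x : A, x ∣ u → ∃ y, ψ y * algebraMap A L x = 1 := by
    intro x hx
    obtain ⟨y, hy⟩ := isUnit_iff_exists_inv.1
      (isUnit_of_dvd_unit (map_dvd (algebraMap A (Localization.Away u)) hx)
        (IsLocalization.Away.algebraMap_isUnit u))
    refine ⟨y, ?_⟩
    rw [← ψ.commutes, ← map_mul, mul_comm, hy, map_one]
  obtain ⟨yU, hyU⟩ := hψu U ⟨c, rfl⟩
  obtain ⟨yc, hyc⟩ := hψu c ⟨U, mul_comm _ _⟩
  have hrange : ∀ b : B, ∃ w, ψ w = algebraMap B L b := by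
    intro b
    obtain ⟨m, a', hm⟩ := hB b
    refine ⟨algebraMap A _ a' * yU ^ m, ?_⟩
    rw [map_mul, ψ.commutes, ← hm, map_mul, map_pow, map_pow, ← IsScalarTower.algebraMap_apply,
      mul_assoc, ← mul_pow, mul_comm (algebraMap A L U), hyU, one_pow, mul_one]
  have hinj : Function.Injective ψ := by
    refine (injective_iff_map_eq_zero ψ).2 fun z hz => ?_
    obtain ⟨x, m, rfl⟩ := IsLocalization.exists_mk'_eq (Submonoid.powers u) z
    have hx : algebraMap A L x = 0 := by
      rw [← ψ.commutes, ← IsLocalization.mk'_spec (M := Submonoid.powers u) _ x m, map_mul, hz,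
        zero_mul]
    rw [IsScalarTower.algebraMap_apply A B L] at hx
    obtain ⟨⟨_, k, rfl⟩, hk⟩ := (IsLocalization.map_eq_zero_iff (Submonoid.powers t₀) L _).1 hx
    have h2 : algebraMap B (Localization.AtPrime q) (algebraMap A B x) = 0 :=
      (IsLocalization.map_eq_zero_iff q.primeCompl _ _).2
        ⟨⟨t₀ ^ k, q.primeCompl.pow_mem ht₀ k⟩, hk⟩
    have h3 : algebraMap A (Localization.AtPrime p) x = 0 := hloc.1 (by
      rw [Localization.localRingHom_to_map, h2, map_zero])
    rw [hA (h3.trans (map_zero _).symm), IsLocalization.mk'_zero]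
  have hsur : Function.Surjective ψ := by
    intro z
    obtain ⟨b, ⟨_, k, rfl⟩, rfl⟩ := IsLocalization.exists_mk'_eq (Submonoid.powers t₀) z
    obtain ⟨w, hw⟩ := hrange b
    have hinv : ψ (algebraMap A _ (U ^ n) * yc) * algebraMap B L t₀ = 1 := by
      rw [map_mul, ψ.commutes]
      have key : algebraMap B L t₀ * algebraMap A L (U ^ n) = algebraMap A L c := by
        rw [← hc, IsScalarTower.algebraMap_apply A B L (U ^ n), map_pow (algebraMap A B), ← map_mul]
      calc algebraMap A L (U ^ n) * ψ yc * algebraMap B L t₀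
          = ψ yc * (algebraMap B L t₀ * algebraMap A L (U ^ n)) := by ring
        _ = 1 := by rw [key]; exact hyc
    refine ⟨w * (algebraMap A _ (U ^ n) * yc) ^ k,
      (IsLocalization.eq_mk'_iff_mul_eq).2 ?_⟩
    rw [map_mul, map_pow, map_pow (algebraMap B L), mul_assoc, ← mul_pow, hinv, one_pow, mul_one, hw]
  exact IsLocalization.isLocalization_of_algEquiv (Submonoid.powers u)
    (AlgEquiv.ofBijective ψ ⟨hinj, hsur⟩)

end Groth.Agent.Spread18
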